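import Groth.Agent.L18.Ample
import Groth.Agent.L00.TensorMod

/-!
# Base loci of the powers of an invertible module

The stable base locus is attained at some power, on a noetherian space.
-/

set_option autoImplicit false
set_option backward.isDefEq.respectTransparency false
universe u

open CategoryTheory AlgebraicGeometry TopologicalSpace

noncomputable section

namespace Groth.L18.BaseLocus

open Groth.L18.Ample Groth.L18.GenLoc

variable {X : Scheme.{u}} {L : X.Modules}

/-- The base locus of `L^m`. -/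
def bs (L : X.Modules) (m : ℕ) : Set X :=
  {x : X | ∀ s : Coh.structureModule X ⟶ CohB1.tensorPow L m, x ∉ CohB1.genLocus (CohB1.tensorPow L m) s}

/-- The stable base locus of `L`. -/
def sbs (L : X.Modules) : Set X :=
  {x : X | ∀ m : ℕ, 0 < m →
    ∀ s : Coh.structureModule X ⟶ CohB1.tensorPow L m, x ∉ CohB1.genLocus (CohB1.tensorPow L m) s}

theorem isClosed_bs (L : X.Modules) (m : ℕ) : IsClosed (bs L m) := by
  have h : bs L m = ⋂ s : Coh.structureModule X ⟶ CohB1.tensorPow L m,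
      (CohB1.genLocus (CohB1.tensorPow L m) s : Set X)ᶜ := by
    ext x
    simp [bs]
  rw [h]
  exact isClosed_iInter fun s => (CohB1.genLocus _ s).2.isClosed_compl

theorem bs_mul_subset (hL : PicF.IsInvertible L) {m k : ℕ} (hk : 0 < k) : bs L (m * k) ⊆ bs L m := by
  intro x hx s hs
  obtain ⟨n, rfl⟩ := Nat.exists_eq_add_one.mpr hk
  refine hx (pw s (n + 1) ≫ (Groth.L00.Tensor.tensorPowMul L m (n + 1)).hom) ?_
  rw [Groth.L16.genLocus_comp_iso, genLocus_pw_succ (isInvertible_tensorPow hL m)]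
  exact hs

theorem sbs_subset_bs (L : X.Modules) {m : ℕ} (hm : 0 < m) : sbs L ⊆ bs L m := fun _ hx => hx m hm

theorem bs_tensorPow (L : X.Modules) (p m : ℕ) : bs (CohB1.tensorPow L p) m = bs L (p * m) := by
  ext x
  refine ⟨fun hx s hs => hx (s ≫ (Groth.L00.Tensor.tensorPowMul L p m).inv) ?_,
    fun hx s hs => hx (s ≫ (Groth.L00.Tensor.tensorPowMul L p m).hom) ?_⟩
  · exact (Groth.L16.genLocus_comp_iso s (Groth.L00.Tensor.tensorPowMul L p m).symm).ge hs
  · rwa [Groth.L16.genLocus_comp_iso]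

theorem sbs_tensorPow (hL : PicF.IsInvertible L) {p : ℕ} (hp : 0 < p) :
    sbs (CohB1.tensorPow L p) = sbs L := by
  refine Set.Subset.antisymm (fun x hx m hm => ?_) (fun x hx m hm => ?_)
  · have h : x ∈ bs (CohB1.tensorPow L p) m := hx m hm
    rw [bs_tensorPow, mul_comm] at h
    exact bs_mul_subset hL hp h
  · have h : x ∈ bs L (p * m) := hx (p * m) (Nat.mul_pos hp hm)
    rw [← bs_tensorPow] at h
    exact h

variable [NoetherianSpace X]

theorem exists_bs_eq_sbs (hL : PicF.IsInvertible L) :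
    ∃ n₀ : ℕ, 0 < n₀ ∧ ∀ k : ℕ, 0 < k → bs L (k * n₀) = sbs L := by
  let F : ℕ → Closeds X := fun m => ⟨bs L (m + 1), isClosed_bs L (m + 1)⟩
  obtain ⟨_, ⟨n, rfl⟩, hmin⟩ :=
    wellFounded_lt.has_min (Set.range F) (Set.range_nonempty F)
  have hsub : ∀ m, 0 < m → bs L (n + 1) ⊆ bs L m := by
    intro m hm
    have hle : bs L (m * (n + 1)) ⊆ bs L (n + 1) := by
      rw [mul_comm]; exact bs_mul_subset hL hm
    obtain ⟨c, hc⟩ := Nat.exists_eq_add_one.mpr (Nat.mul_pos hm n.succ_pos)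
    rw [hc] at hle
    have heq : bs L (n + 1) ⊆ bs L (c + 1) := by
      by_contra hne
      exact hmin (F c) ⟨c, rfl⟩ (lt_of_le_of_ne hle fun h => hne (h ▸ subset_rfl : (F n : Set X) ⊆ F c))
    rw [← hc] at heq
    exact heq.trans (bs_mul_subset hL n.succ_pos)
  have hsbs : bs L (n + 1) ⊆ sbs L := fun x hx m hm => hsub m hm hx
  refine ⟨n + 1, n.succ_pos, fun k hk => Set.Subset.antisymm ?_ (sbs_subset_bs L (Nat.mul_pos hk n.succ_pos))⟩
  rw [mul_comm]
  exact (bs_mul_subset hL hk).trans hsbs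

theorem bs_minimal_iff (hL : PicF.IsInvertible L) {m : ℕ} (hm : 0 < m) :
    (∀ m' : ℕ, 0 < m' → bs L m' ⊆ bs L m → bs L m' = bs L m) ↔ bs L m = sbs L := by
  obtain ⟨n₀, hn₀, hn⟩ := exists_bs_eq_sbs hL
  constructor
  · intro h
    rw [← hn m hm]
    exact (h _ (Nat.mul_pos hm hn₀) (bs_mul_subset hL hn₀)).symm
  · intro h m' hm' hle
    exact hle.antisymm (h ▸ sbs_subset_bs L hm')

end Groth.L18.BaseLocus
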