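import Groth.Agent.L22.Big.Nef
import Groth.Agent.L18.AmpleGG

/-!
# Big invertible modules

Nonzero sections of all large powers, and the equivalence of bigness with the growth of sections.
-/

set_option autoImplicit false
set_option backward.isDefEq.respectTransparency false
set_option linter.style.haveILetI false
set_option linter.unusedSectionVars false
universe u

open CategoryTheory CategoryTheory.Limits AlgebraicGeometry TopologicalSpace

noncomputable section

namespace Groth.L18.PosBig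

open Groth.L18.Ample Groth.L18.GenLoc Groth.L22.Big
open Groth.L03.Euler (mulSection)
open Groth.L00.Tensor (tensorIso tensorAssoc tensorComm tensorUnitRight tensorUnitLeft tensorPowAdd tensorPowMul
  tensorPowOne)

variable (k : Type u) [Field k] {X : Scheme.{u}} [X.Over (Spec (CommRingCat.of k))]
  [IsProper (X ↘ Spec (CommRingCat.of k))] [IsIntegral X] {H L : X.Modules}

/-- `L^n` has a section which is nonzero at the generic point. -/
def Good (L : X.Modules) (n : ℕ) : Prop :=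
  ∃ s : Coh.structureModule X ⟶ CohB1.tensorPow L n, genericPoint X ∈ CohB1.genLocus _ s

theorem good_zero (L : X.Modules) : Good L 0 :=
  ⟨𝟙 _, (Groth.L18.Ample.genLocus_id (X := X)).ge trivial⟩

theorem Good.add {hL : PicF.IsInvertible L} {a b : ℕ} (ha : Good L a) (hb : Good L b) : Good L (a + b) := by
  obtain ⟨s, hs⟩ := ha
  obtain ⟨t, ht⟩ := hb
  refine ⟨tensHom s t ≫ (tensorPowAdd L a b).hom, ?_⟩
  rw [Groth.L16.genLocus_comp_iso, genLocus_tensHom (isInvertible_tensorPow hL a) (isInvertible_tensorPow hL b)]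
  exact ⟨hs, ht⟩

theorem Good.mul {hL : PicF.IsInvertible L} {a : ℕ} (ha : Good L a) : ∀ i : ℕ, Good L (i * a)
  | 0 => by rw [Nat.zero_mul]; exact good_zero L
  | i + 1 => by rw [Nat.succ_mul]; exact Good.add (hL := hL) (Good.mul (hL := hL) ha i) ha

theorem Good.large {hL : PicF.IsInvertible L} {a : ℕ} (ha : Good L a) (ha' : Good L (a + 1)) {n : ℕ}
    (hn : (a + 1) * a ≤ n) : Good L n := by
  rcases Nat.eq_zero_or_pos a with rfl | hpos
  · simpa using Good.mul (hL := hL) ha' n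
  have hr : n % a < a := Nat.mod_lt _ hpos
  have hq : a + 1 ≤ n / a := (Nat.le_div_iff_mul_le hpos).2 hn
  have e : n = (n / a - n % a) * a + n % a * (a + 1) := by
    obtain ⟨d, hd⟩ : ∃ d, n / a = d + n % a := ⟨n / a - n % a, by omega⟩
    have h := Nat.div_add_mod n a
    rw [hd] at h ⊢
    rw [Nat.add_sub_cancel]
    refine h.symm.trans ?_
    ring
  rw [e]
  exact Good.add (hL := hL) (Good.mul (hL := hL) ha _) (Good.mul (hL := hL) ha' _)

theorem ne_zero_of_mono {N : X.Modules} (s : Coh.structureModule X ⟶ N) [Mono s] : s ≠ 0 := by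
  intro h
  have h1 : (𝟙 (Coh.structureModule X) : Coh.structureModule X ⟶ Coh.structureModule X) = 0 := by
    rw [← cancel_mono s, h, comp_zero, comp_zero]
  have h2 : genericPoint X ∈ CohB1.genLocus _ (𝟙 (Coh.structureModule X)) :=
    (Groth.L18.Ample.genLocus_id (X := X)).ge trivial
  rw [h1] at h2
  exact Groth.L16.notMem_genLocus_zero _ _ h2

include k in
theorem mono_of_mem_genLocus {N : X.Modules} (s : Coh.structureModule X ⟶ N)
    (hs : genericPoint X ∈ CohB1.genLocus N s) : Mono s := by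
  haveI := Groth.L21.RR.isNoetherian_of_proper (X := X) k
  exact Groth.L22.Nakai.mono_of_injective (isInvertible_structureModule X) s (bijective_stalk_section s hs).1

include k in
theorem mono_tensorRight {P M N : X.Modules} (hP : PicF.IsInvertible P) (f : M ⟶ N) [Mono f] :
    Mono ((Groth.L00.Tensor.tensorRightF P).map f) :=
  (Groth.L03.Euler.shortExact_tensor hP
    (S := ShortComplex.mk f (cokernel.π f) (cokernel.condition f))
    { exact := ShortComplex.exact_cokernel f }).mono_f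

include k in
theorem exists_good_pair (hH : CohB1.IsAmple H) (hL : PicF.IsInvertible L)
    (hbig : ∀ A : X.Modules, CohB1.IsAmple A → ∃ (m : ℕ) (φ : A ⟶ CohB1.tensorPow L m), 0 < m ∧ Mono φ) :
    ∃ a : ℕ, Good L a ∧ Good L (a + 1) := by
  haveI := Groth.L21.RR.isNoetherian_of_proper (X := X) k
  obtain ⟨e, he, -, s, hs⟩ := exists_section_pow k hH
  obtain ⟨n₀, hn₀, hgg⟩ := exists_forall_isAmple_gg hH hL
  -- a nonzero section of a large power of `H`
  obtain ⟨c, hc⟩ := Nat.exists_eq_add_one.mpr hn₀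
  let B := CohB1.tensorPow H (e * (c + 1))
  have hB : PicF.IsInvertible B := isInvertible_tensorPow hH.1 _
  have hse : genericPoint X ∈ CohB1.genLocus _ s :=
    Groth.L22.CurveAmple.genericPoint_mem_genLocus (isInvertible_tensorPow hH.1 e) hs
  let t : Coh.structureModule X ⟶ B := pw s (c + 1) ≫ (tensorPowMul H e (c + 1)).hom
  have ht : genericPoint X ∈ CohB1.genLocus B t := by
    rw [Groth.L16.genLocus_comp_iso, genLocus_pw_succ (isInvertible_tensorPow hH.1 e)]
    exact hse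
  obtain ⟨hA, hAgg⟩ := hgg (e * (c + 1)) (by rw [hc]; exact Nat.le_mul_of_pos_left _ he)
  obtain ⟨m, φ, hm, hφ⟩ := hbig _ hA
  haveI := hφ
  obtain ⟨a, rfl⟩ := Nat.exists_eq_add_one.mpr hm
  refine ⟨a, ?_, ?_⟩
  · -- a section of `L^a`
    haveI : Mono (mulSection L t) := mono_mulSection k hL t ht
    let ψ : L ⟶ CohB1.tensorPow L (a + 1) := mulSection L t ≫ (tensorComm L B).hom ≫ φ
    obtain ⟨L', hL', ⟨ι⟩⟩ := Groth.L08.Cube.exists_inverse hL
    haveI := mono_tensorRight k hL' ψ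
    let σ : Coh.structureModule X ⟶ CohB1.tensorPow L a :=
      ι.inv ≫ (Groth.L00.Tensor.tensorRightF L').map ψ ≫
        (tensorAssoc (CohB1.tensorPow L a) L L' ≪≫ tensorIso (Iso.refl _) ι ≪≫ tensorUnitRight _).hom
    haveI : Mono σ := mono_comp _ _
    exact ⟨σ, Groth.L22.CurveAmple.genericPoint_mem_genLocus (isInvertible_tensorPow hL a) (ne_zero_of_mono σ)⟩
  · obtain ⟨u, hu⟩ := exists_genLocus_mem_of_gg hA.1 hAgg (genericPoint X)
    haveI := mono_of_mem_genLocus k u hu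
    exact ⟨u ≫ φ, Groth.L22.CurveAmple.genericPoint_mem_genLocus (isInvertible_tensorPow hL _)
      (ne_zero_of_mono _)⟩

include k in
theorem exists_good_large (hH : CohB1.IsAmple H) (hL : PicF.IsInvertible L)
    (hbig : ∀ A : X.Modules, CohB1.IsAmple A → ∃ (m : ℕ) (φ : A ⟶ CohB1.tensorPow L m), 0 < m ∧ Mono φ) :
    ∃ m₁ : ℕ, ∀ m : ℕ, m₁ ≤ m → Good L m := by
  obtain ⟨a, ha, ha'⟩ := exists_good_pair k hH hL hbig
  exact ⟨(a + 1) * a, fun m hm => Good.large (hL := hL) ha ha' hm⟩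

theorem nontrivial_HH_of_good {n : ℕ} (h : Good L n) : Nontrivial (Coh.HH X (CohB1.tensorPow L n) 0) := by
  obtain ⟨s, hs⟩ := h
  refine ⟨⟨(Groth.L21.RR.e0 _).symm (s.app ⊤ (1 : Γ(X, ⊤))), 0, fun h0 => ?_⟩⟩
  rw [AddEquiv.map_eq_zero_iff] at h0
  rw [Groth.L16.eq_zero_of_app_top_eq_zero s h0] at hs
  exact Groth.L16.notMem_genLocus_zero _ _ hs

include k in
theorem h0_le_mul {M N : X.Modules} (hM : PicF.IsInvertible M) (hN : PicF.IsInvertible N)
    (s : Coh.structureModule X ⟶ N) (hs : genericPoint X ∈ CohB1.genLocus N s) :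
    h0 k M ≤ h0 k (CohB1.tensorMod M N) := by
  haveI := mono_mulSection k hM s hs
  exact h0_le_of_mono k (mulSection M s) (isCoh_of_isInvertible (isInvertible_tensor hM hN))

include k in
theorem exists_mono_pow (hH : PicF.IsInvertible H) (hL : PicF.IsInvertible L) {M : ℕ}
    (φ : H ⟶ CohB1.tensorPow L M) [Mono φ] :
    ∀ q : ℕ, ∃ ψ : CohB1.tensorPow H q ⟶ CohB1.tensorPow L (M * q), Mono ψ
  | 0 => ⟨𝟙 _, inferInstance⟩
  | q + 1 => by
    obtain ⟨ψ, hψ⟩ := exists_mono_pow hH hL φ q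
    haveI := hψ
    let a : CohB1.tensorPow H (q + 1) ⟶ CohB1.tensorMod (CohB1.tensorPow L (M * q)) H :=
      (Groth.L00.Tensor.tensorRightF H).map ψ
    let b : CohB1.tensorMod H (CohB1.tensorPow L (M * q)) ⟶
        CohB1.tensorMod (CohB1.tensorPow L M) (CohB1.tensorPow L (M * q)) :=
      (Groth.L00.Tensor.tensorRightF (CohB1.tensorPow L (M * q))).map φ
    haveI : Mono a := mono_tensorRight k hH ψ
    haveI : Mono b := mono_tensorRight k (isInvertible_tensorPow hL (M * q)) φ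
    exact ⟨a ≫ (tensorComm _ _).hom ≫ b ≫ (tensorComm _ _ ≪≫ tensorPowAdd L (M * q) M).hom, mono_comp _ _⟩

include k in
/-- Bigness gives growth of the sections. -/
theorem growth_of_big (hH : CohB1.IsAmple H) {n : ℕ} (hn : topologicalKrullDim X = n)
    (hL : PicF.IsInvertible L)
    (hbig : ∀ A : X.Modules, CohB1.IsAmple A → ∃ (m : ℕ) (φ : A ⟶ CohB1.tensorPow L m), 0 < m ∧ Mono φ) :
    ∃ C : ℚ, 0 < C ∧ ∃ m₁ : ℕ, ∀ m : ℕ, m₁ ≤ m → C * (m : ℚ) ^ n ≤ (h0 k (CohB1.tensorPow L m) : ℚ) := by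
  haveI := Groth.L21.RR.isNoetherian_of_proper (X := X) k
  obtain ⟨m₂, hm₂⟩ := exists_good_large k hH hL hbig
  obtain ⟨M, φ, hM, hφ⟩ := hbig H hH
  haveI := hφ
  have hpos : 0 < Groth.L22.Inter.altT k (fun _ : Fin n => H) (Coh.structureModule X) / (n.factorial : ℚ) :=
    div_pos (altT_ample_pos k hH hn) (by exact_mod_cast n.factorial_pos)
  obtain ⟨q₀, hq₀⟩ := exists_le_h0 k hH (isInvertible_structureModule X) hn.le (half_lt_self hpos)
  let t := Groth.L22.Inter.altT k (fun _ : Fin n => H) (Coh.structureModule X) / (n.factorial : ℚ) / 2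
  have ht : 0 < t := half_pos hpos
  refine ⟨t / (2 * M : ℚ) ^ n, by positivity, M * (q₀ + m₂ + 1) + m₂, fun m hm => ?_⟩
  let q := (m - m₂) / M
  have h1 : M * q ≤ m - m₂ := Nat.mul_div_le _ _
  have hlt : m - m₂ < M * q + M := by
    have h := Nat.div_add_mod (m - m₂) M
    have h' := Nat.mod_lt (m - m₂) hM
    show m - m₂ < M * ((m - m₂) / M) + M
    omega
  have hq1 : q₀ + m₂ + 1 ≤ q := (Nat.le_div_iff_mul_le hM).2 (by rw [mul_comm]; omega)
  obtain ⟨s, hs⟩ := hm₂ (m - M * q) (by omega)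
  obtain ⟨ψ, hψ⟩ := exists_mono_pow k hH.1 hL φ q
  haveI := hψ
  have hle : h0 k (CohB1.tensorPow H q) ≤ h0 k (CohB1.tensorPow L m) := by
    refine (h0_le_of_mono k ψ (isCoh_of_isInvertible (isInvertible_tensorPow hL _))).trans ?_
    refine (h0_le_mul k (isInvertible_tensorPow hL _) (isInvertible_tensorPow hL _) s hs).trans (le_of_eq ?_)
    exact h0_iso k (tensorPowAdd L (M * q) (m - M * q) ≪≫ eqToIso (by rw [Nat.add_sub_cancel' (by omega)]))
  have hq0 : (h0 k (CohB1.tensorMod (Coh.structureModule X) (CohB1.tensorPow H q)) : ℚ) =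
      (h0 k (CohB1.tensorPow H q) : ℚ) := by
    rw [h0_iso k (tensorUnitLeft (CohB1.tensorPow H q))]
  have hm' : (m : ℚ) ≤ 2 * M * q := by
    have h3 : m₂ + M ≤ M * q := by
      have h4 : M * (m₂ + 1) ≤ M * q := Nat.mul_le_mul_left M (by omega)
      have h5 : m₂ ≤ M * m₂ := Nat.le_mul_of_pos_left m₂ hM
      rw [Nat.mul_add, Nat.mul_one] at h4
      omega
    have h6 : m ≤ 2 * (M * q) := by omega
    rw [mul_assoc]; exact_mod_cast h6
  calc t / (2 * M : ℚ) ^ n * (m : ℚ) ^ n ≤ t / (2 * M : ℚ) ^ n * ((2 * M : ℚ) ^ n * (q : ℚ) ^ n) := by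
        rw [← mul_pow]
        exact mul_le_mul_of_nonneg_left (pow_le_pow_left₀ (Nat.cast_nonneg _) hm' _) (by positivity)
    _ = t * (q : ℚ) ^ n := by rw [← mul_assoc, div_mul_cancel₀ _ (by positivity)]
    _ ≤ (h0 k (CohB1.tensorPow H q) : ℚ) := hq0 ▸ hq₀ q (by omega)
    _ ≤ _ := by exact_mod_cast hle

include k in
/-- Growth of the sections gives bigness. -/
theorem big_of_growth (hH : CohB1.IsAmple H) {n : ℕ} (hn : topologicalKrullDim X = n)
    (hL : PicF.IsInvertible L)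
    (hgrow : 0 < n → ∀ B : ℕ, ∃ m : ℕ, 0 < m ∧ B * (m + 2) ^ (n - 1) < h0 k (CohB1.tensorPow L m))
    (A : X.Modules) (hA : CohB1.IsAmple A) :
    ∃ (m : ℕ) (φ : A ⟶ CohB1.tensorPow L m), 0 < m ∧ Mono φ := by
  haveI := Groth.L21.RR.isNoetherian_of_proper (X := X) k
  obtain ⟨ν, A₀, φ, hν, hA₀, hφ⟩ := exists_mono_of_growth k hH hL hn hgrow
  haveI := hφ
  obtain ⟨A', hA', ⟨ι⟩⟩ := Groth.L08.Cube.exists_inverse hA.1
  obtain ⟨n₀, hn₀, hgg⟩ := exists_forall_isAmple_gg hA₀ hA'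
  obtain ⟨hG, hGgg⟩ := hgg n₀ le_rfl
  obtain ⟨t, ht⟩ := exists_genLocus_mem_of_gg hG.1 hGgg (genericPoint X)
  obtain ⟨ψ, hψ⟩ := exists_mono_pow k hA₀.1 hL φ n₀
  haveI := hψ
  haveI : Mono (mulSection A t) := mono_mulSection k hA.1 t ht
  exact ⟨ν * n₀, mulSection A t ≫ (tensorIso (Iso.refl A) (tensorComm _ _) ≪≫ (tensorAssoc _ _ _).symm ≪≫
    tensorIso ι (Iso.refl _) ≪≫ tensorUnitLeft (CohB1.tensorPow A₀ n₀)).hom ≫ ψ, Nat.mul_pos hν hn₀, mono_comp _ _⟩

end Groth.L18.PosBig
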