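import Groth.Agent.L18.PosLin.Big
import Groth.Prelude.Def_NumR
import Mathlib.Topology.Algebra.Module.ModuleTopology

/-!
# The big cone

The big cone is the sum of the ample and the effective cone, and is the interior of the pseudo-effective cone.
-/

set_option autoImplicit false
set_option backward.isDefEq.respectTransparency false
set_option linter.style.haveILetI false
set_option linter.unusedSectionVars false
universe u

open CategoryTheory CategoryTheory.Limits AlgebraicGeometry TopologicalSpace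

noncomputable section

namespace Groth.L18.PosCones

open Groth.L18.Ample Groth.L18.GenLoc Groth.L22.Big Groth.L18.PosBig
open Groth.L03.Euler (mulSection)
open Groth.L00.Tensor (tensorIso tensorAssoc tensorComm tensorUnitRight tensorUnitLeft tensorPowAdd tensorPowMul
  tensorPowOne tensorPowTensor)
open NumR (clR coneOf ampleCone effCone psefCone HasSection)

variable (k : Type u) [Field k] {X : Scheme.{u}} [X.Over (Spec (CommRingCat.of k))]

section Law

variable [PicGrp.Law X]

theorem clR_iso {L M : X.Modules} (hL : PicF.IsInvertible L) (hM : PicF.IsInvertible M) (e : L ≅ M) :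
    clR k X L hL = clR k X M hM := by
  have h : PicGrp.cls L hL = PicGrp.cls M hM := (PicGrp.cls_eq_cls_iff hL hM).2 ⟨e⟩
  simp only [NumR.clR_def, ← NumR.toN1_ofMul_cls, h]

theorem clR_tensor {L M : X.Modules} (hL : PicF.IsInvertible L) (hM : PicF.IsInvertible M) :
    clR k X (CohB1.tensorMod L M) (isInvertible_tensor hL hM) = clR k X L hL + clR k X M hM := by
  have h : PicGrp.cls (CohB1.tensorMod L M) (isInvertible_tensor hL hM) = PicGrp.cls L hL * PicGrp.cls M hM :=
    Subtype.ext (by rw [PicGrp.cls_mul_cls_val]; rfl)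
  simp only [NumR.clR_def, ← NumR.toN1_ofMul_cls, h, ofMul_mul, map_add]

theorem clR_one : clR k X (Coh.structureModule X) (isInvertible_structureModule X) = 0 := by
  have h := clR_tensor k (isInvertible_structureModule X) (isInvertible_structureModule X)
  rw [clR_iso k _ (isInvertible_structureModule X) (tensorUnitLeft (Coh.structureModule X))] at h
  exact add_eq_left.1 h.symm

theorem clR_pow {L : X.Modules} (hL : PicF.IsInvertible L) : ∀ n : ℕ,
    clR k X (CohB1.tensorPow L n) (isInvertible_tensorPow hL n) = (n : ℝ) • clR k X L hL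
  | 0 => by rw [Nat.cast_zero, zero_smul]; exact clR_one k
  | n + 1 => by
    refine (clR_tensor k (isInvertible_tensorPow hL n) hL).trans ?_
    rw [clR_pow hL n, Nat.cast_succ, add_smul, one_smul]

theorem clR_inv {L L' : X.Modules} (hL : PicF.IsInvertible L) (hL' : PicF.IsInvertible L')
    (e : CohB1.tensorMod L L' ≅ Coh.structureModule X) : clR k X L' hL' = -clR k X L hL := by
  refine eq_neg_of_add_eq_zero_right ?_
  rw [← clR_tensor k hL hL', clR_iso k _ (isInvertible_structureModule X) e]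
  exact clR_one k

theorem mem_coneOf {P : X.Modules → Prop} {L : X.Modules} (hL : PicF.IsInvertible L) (h : P L) :
    clR k X L hL ∈ coneOf k X P :=
  ConvexCone.subset_hull ⟨L, hL, h, rfl⟩

/-- Ample classes absorb small multiples of any class. -/
theorem exists_nat_add_mem_ampleCone {A M : X.Modules} (hA : CohB1.IsAmple A) (hM : PicF.IsInvertible M) :
    ∃ n : ℕ, 0 < n ∧ (n : ℝ) • clR k X A hA.1 + clR k X M hM ∈ ampleCone k X := by
  obtain ⟨n₀, hn₀, h⟩ := exists_forall_isAmple_gg hA hM
  refine ⟨n₀, hn₀, ?_⟩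
  rw [← clR_pow k hA.1, ← clR_tensor k (isInvertible_tensorPow hA.1 n₀) hM]
  exact mem_coneOf k _ (h n₀ le_rfl).1

end Law

variable [IsProper (X ↘ Spec (CommRingCat.of k))] [IsIntegral X]

/-- Bigness: every ample module embeds in a power. -/
def IsBig (L : X.Modules) : Prop :=
  ∀ A : X.Modules, CohB1.IsAmple A → ∃ (m : ℕ) (φ : A ⟶ CohB1.tensorPow L m), 0 < m ∧ Mono φ

include k in
theorem good_one_of_hasSection {E : X.Modules} (hE : PicF.IsInvertible E) (h : HasSection E) : Good E 1 := by
  obtain ⟨s, hs⟩ := h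
  refine ⟨s ≫ (tensorPowOne E).inv, ?_⟩
  rw [show (tensorPowOne E).inv = (tensorPowOne E).symm.hom from rfl, Groth.L16.genLocus_comp_iso]
  exact Groth.L22.CurveAmple.genericPoint_mem_genLocus hE hs

include k in
theorem isBig_ample_tensor {A E : X.Modules} (hA : CohB1.IsAmple A) (hE : PicF.IsInvertible E)
    (hs : HasSection E) (N : ℕ) : IsBig (CohB1.tensorMod A (CohB1.tensorPow E N)) := by
  intro B hB
  haveI := Groth.L21.RR.isNoetherian_of_proper (X := X) k
  obtain ⟨B', hB', ⟨ι⟩⟩ := Groth.L08.Cube.exists_inverse hB.1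
  obtain ⟨n, hn, hgg⟩ := exists_forall_isAmple_gg hA hB'
  obtain ⟨hG, hGgg⟩ := hgg n le_rfl
  obtain ⟨t, ht⟩ := exists_genLocus_mem_of_gg hG.1 hGgg (genericPoint X)
  haveI : Mono (mulSection B t) := mono_mulSection k hB.1 t ht
  let a : B ⟶ CohB1.tensorPow A n := mulSection B t ≫ (tensorIso (Iso.refl B) (tensorComm _ _) ≪≫
    (tensorAssoc _ _ _).symm ≪≫ tensorIso ι (Iso.refl _) ≪≫ tensorUnitLeft (CohB1.tensorPow A n)).hom
  have hg := Good.mul (hL := hE) (good_one_of_hasSection k hE hs) (N * n)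
  rw [mul_one] at hg
  obtain ⟨σ, hσ⟩ := hg
  haveI : Mono (mulSection (CohB1.tensorPow A n) σ) :=
    mono_mulSection k (isInvertible_tensorPow hA.1 n) σ hσ
  haveI : Mono a := mono_comp _ _
  exact ⟨n, a ≫ mulSection (CohB1.tensorPow A n) σ ≫ (tensorIso (Iso.refl _) (tensorPowMul E N n).symm ≪≫
    (tensorPowTensor A (CohB1.tensorPow E N) n).symm).hom, hn, mono_comp _ _⟩

variable [PicGrp.Law X]

include k in
theorem bigCone_add {A E : X.Modules} (hA : CohB1.IsAmple A) (hE : PicF.IsInvertible E) (hs : HasSection E)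
    {s t : ℝ} (hs₀ : 0 < s) (ht₀ : 0 < t) :
    s • clR k X A hA.1 + t • clR k X E hE ∈ coneOf k X IsBig := by
  obtain ⟨N, hN⟩ := exists_nat_gt (t / s)
  have hN0 : (0 : ℝ) < N := (div_pos ht₀ hs₀).trans hN
  have hlt : t / N < s := by
    rw [div_lt_iff₀ hN0]
    rw [div_lt_iff₀ hs₀] at hN
    linarith
  have hb : ∀ M : ℕ, clR k X A hA.1 + (M : ℝ) • clR k X E hE ∈ coneOf k X IsBig := fun M => by
    rw [← clR_pow k hE, ← clR_tensor k hA.1 (isInvertible_tensorPow hE M)]
    exact mem_coneOf k _ (isBig_ample_tensor k hA hE hs M)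
  have h := ConvexCone.add_mem _ (ConvexCone.smul_mem _ (sub_pos.2 hlt) (hb 0))
    (ConvexCone.smul_mem _ (div_pos ht₀ hN0) (hb N))
  rw [Nat.cast_zero, zero_smul, add_zero, smul_add, smul_smul, div_mul_cancel₀ _ hN0.ne', ← add_assoc,
    ← add_smul, sub_add_cancel] at h
  exact h

include k in
theorem zero_mem_effCone : (0 : NumR.N1R k X) ∈ effCone k X := by
  rw [← clR_one k]
  refine mem_coneOf k _ ⟨𝟙 _, ?_⟩
  exact ne_zero_of_mono _

include k in
theorem add_mem_bigCone {a e : NumR.N1R k X} (ha : a ∈ ampleCone k X) (he : e ∈ effCone k X) :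
    a + e ∈ coneOf k X IsBig := by
  let S : ConvexCone ℝ (NumR.N1R k X) :=
    { carrier := {e | ∀ a ∈ ampleCone k X, a + e ∈ coneOf k X IsBig}
      smul_mem' := fun c hc e he a ha => by
        have h := ConvexCone.smul_mem _ hc (he _ (ConvexCone.smul_mem _ (inv_pos.2 hc) ha))
        rwa [smul_add, smul_smul, mul_inv_cancel₀ hc.ne', one_smul] at h
      add_mem' := fun x hx y hy a ha => by
        have h2 : (0 : ℝ) < 1 / 2 := by norm_num
        have h := ConvexCone.add_mem _ (hx _ (ConvexCone.smul_mem _ h2 ha)) (hy _ (ConvexCone.smul_mem _ h2 ha))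
        rwa [add_add_add_comm, ← add_smul, show (1 / 2 + 1 / 2 : ℝ) = 1 by norm_num, one_smul] at h }
  have hS : effCone k X ≤ S := by
    refine ConvexCone.hull_min ?_
    rintro _ ⟨E, hE, hEs, rfl⟩
    let T : ConvexCone ℝ (NumR.N1R k X) :=
      { carrier := {a | ∀ t : ℝ, 0 < t → a + t • clR k X E hE ∈ coneOf k X IsBig}
        smul_mem' := fun c hc a ha t ht => by
          have h := ConvexCone.smul_mem _ hc (ha (c⁻¹ * t) (mul_pos (inv_pos.2 hc) ht))
          rwa [smul_add, smul_smul c, ← mul_assoc, mul_inv_cancel₀ hc.ne', one_mul] at h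
        add_mem' := fun x hx y hy t ht => by
          have h := ConvexCone.add_mem _ (hx (t / 2) (half_pos ht)) (hy (t / 2) (half_pos ht))
          rwa [add_add_add_comm, ← add_smul, add_halves] at h }
    have hT : ampleCone k X ≤ T := by
      refine ConvexCone.hull_min ?_
      rintro _ ⟨A, hA, hAa, rfl⟩ t ht
      have h := bigCone_add k hAa hE hEs one_pos ht
      rwa [one_smul] at h
    intro a ha
    have h := hT ha 1 one_pos
    rwa [one_smul] at h
  exact hS he a ha

include k in
theorem mem_bigCone_iff {H : X.Modules} (hH : CohB1.IsAmple H) (x : NumR.N1R k X) :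
    x ∈ coneOf k X IsBig ↔ ∃ a ∈ ampleCone k X, x - a ∈ effCone k X := by
  refine ⟨fun hx => ?_, fun ⟨a, ha, hxa⟩ => by simpa using add_mem_bigCone k ha hxa⟩
  let S : ConvexCone ℝ (NumR.N1R k X) :=
    { carrier := {x | ∃ a ∈ ampleCone k X, x - a ∈ effCone k X}
      smul_mem' := fun c hc x ⟨a, ha, he⟩ => ⟨c • a, ConvexCone.smul_mem _ hc ha, by
        rw [← smul_sub]; exact ConvexCone.smul_mem _ hc he⟩
      add_mem' := fun x ⟨a, ha, he⟩ y ⟨b, hb, hf⟩ => ⟨a + b, ConvexCone.add_mem _ ha hb, by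
        rw [add_sub_add_comm]; exact ConvexCone.add_mem _ he hf⟩ }
  have hS : coneOf k X IsBig ≤ S := by
    refine ConvexCone.hull_min ?_
    rintro _ ⟨L, hL, hbig, rfl⟩
    haveI := Groth.L21.RR.isNoetherian_of_proper (X := X) k
    obtain ⟨m, φ, hm, hφ⟩ := hbig H hH
    haveI := hφ
    obtain ⟨H', hH', ⟨ι⟩⟩ := Groth.L08.Cube.exists_inverse hH.1
    haveI := mono_tensorRight k hH' φ
    let σ : Coh.structureModule X ⟶ CohB1.tensorMod (CohB1.tensorPow L m) H' :=
      ι.inv ≫ (Groth.L00.Tensor.tensorRightF H').map φ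
    haveI : Mono σ := mono_comp _ _
    have hE := mem_coneOf k (P := HasSection) (isInvertible_tensor (isInvertible_tensorPow hL m) hH')
      ⟨σ, ne_zero_of_mono σ⟩
    rw [clR_tensor k (isInvertible_tensorPow hL m) hH', clR_pow k hL, clR_inv k hH.1 hH' ι] at hE
    have hm' : (0 : ℝ) < (m : ℝ)⁻¹ := inv_pos.2 (by exact_mod_cast hm)
    refine ⟨(m : ℝ)⁻¹ • clR k X H hH.1, ConvexCone.smul_mem _ hm' (mem_coneOf k _ hH), ?_⟩
    have h := ConvexCone.smul_mem _ hm' hE
    rwa [smul_add, smul_smul, inv_mul_cancel₀ (by exact_mod_cast hm.ne'), one_smul, smul_neg, ← sub_eq_add_neg] at h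
  exact hS hx

include k in
theorem ampleCone_le_effCone : ampleCone k X ≤ effCone k X := by
  refine ConvexCone.hull_min ?_
  rintro _ ⟨A, hA, hAa, rfl⟩
  obtain ⟨e, he, -, s, hs⟩ := exists_section_pow k hAa
  have h := mem_coneOf k (P := HasSection) (isInvertible_tensorPow hA e) ⟨s, hs⟩
  rw [clR_pow k hA] at h
  have he' : (0 : ℝ) < (e : ℝ)⁻¹ := inv_pos.2 (by exact_mod_cast he)
  have h' := ConvexCone.smul_mem _ he' h
  rwa [smul_smul, inv_mul_cancel₀ (by exact_mod_cast he.ne'), one_smul] at h'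

section Topology

instance : IsTopologicalAddGroup (NumR.N1R k X) where
  continuous_neg := by
    simpa only [neg_one_smul] using (continuous_const_smul (-1 : ℝ) : Continuous fun x : NumR.N1R k X => (-1 : ℝ) • x)

variable [Module.Finite ℝ (NumR.N1R k X)]

theorem isOpen_ampleCone : IsOpen (ampleCone k X : Set (NumR.N1R k X)) := by
  classical
  let C := ampleCone k X
  let I : ConvexCone ℝ (NumR.N1R k X) :=
    { carrier := interior (C : Set _)
      smul_mem' := fun c hc x hx => by
        rw [mem_interior] at hx ⊢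
        obtain ⟨U, hUC, hU, hxU⟩ := hx
        exact ⟨(fun y => c • y) '' U, by rintro _ ⟨y, hy, rfl⟩; exact ConvexCone.smul_mem _ hc (hUC hy),
          (Homeomorph.smulOfNeZero c hc.ne').isOpenMap U hU, x, hxU, rfl⟩
      add_mem' := fun x hx y hy => by
        rw [mem_interior] at hx ⊢
        obtain ⟨U, hUC, hU, hxU⟩ := hx
        exact ⟨(fun z => z + y) '' U, by
          rintro _ ⟨z, hz, rfl⟩; exact ConvexCone.add_mem _ (hUC hz) (interior_subset hy),
          (Homeomorph.addRight y).isOpenMap U hU, x, hxU, rfl⟩ }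
  suffices C ≤ I from interior_eq_iff_isOpen.1 (Set.Subset.antisymm interior_subset this)
  refine ConvexCone.hull_min ?_
  rintro _ ⟨A, hA, hAa, rfl⟩
  show clR k X A hA ∈ interior (C : Set _)
  obtain ⟨n, v, hv⟩ := Module.Finite.exists_fin (R := ℝ) (M := NumR.N1R k X)
  have hgen : ∀ j, v j ∈ Submodule.span ℝ
      {x : NumR.N1R k X | ∃ (L : X.Modules) (hL : PicF.IsInvertible L), x = clR k X L hL} := fun j => by
    rw [NumR.span_clR]; trivial
  choose T hT hvT using fun j => Submodule.mem_span_finite_of_mem_span (hgen j)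
  let S : Finset (NumR.N1R k X) := Finset.univ.biUnion T
  have hS : Submodule.span ℝ (S : Set (NumR.N1R k X)) = ⊤ := by
    rw [eq_top_iff, ← hv, Submodule.span_le]
    rintro _ ⟨j, rfl⟩
    exact Submodule.span_mono (fun x hx => Finset.mem_biUnion.2 ⟨j, Finset.mem_univ _, hx⟩) (hvT j)
  have hmem : ∀ i : S, ∃ (N : ℕ), 0 < N ∧ (N : ℝ) • clR k X A hA + i.1 ∈ C ∧ (N : ℝ) • clR k X A hA - i.1 ∈ C := by
    intro i
    obtain ⟨j, -, hj⟩ := Finset.mem_biUnion.1 i.2
    obtain ⟨L, hL, e⟩ := hT j hj
    obtain ⟨L', hL', ⟨ι⟩⟩ := Groth.L08.Cube.exists_inverse hL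
    obtain ⟨a, ha, h₁⟩ := exists_nat_add_mem_ampleCone k hAa hL
    obtain ⟨b, hb, h₂⟩ := exists_nat_add_mem_ampleCone k hAa hL'
    rw [clR_inv k hL hL' ι, ← sub_eq_add_neg] at h₂
    refine ⟨a + b, Nat.add_pos_left ha b, ?_, ?_⟩
    · have h := ConvexCone.add_mem _ (ConvexCone.smul_mem _ (show (0 : ℝ) < b by exact_mod_cast hb)
        (mem_coneOf k hA hAa)) h₁
      rw [e, Nat.cast_add, add_comm (a : ℝ), add_smul, add_assoc]
      exact h
    · have h := ConvexCone.add_mem _ (ConvexCone.smul_mem _ (show (0 : ℝ) < a by exact_mod_cast ha)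
        (mem_coneOf k hA hAa)) h₂
      rw [e, Nat.cast_add, add_smul, add_sub_assoc]
      exact h
  choose N hN hp hm using hmem
  let φ : (S → ℝ) →ₗ[ℝ] NumR.N1R k X := Fintype.linearCombination ℝ (fun i : S => i.1)
  have hφ : Function.Surjective φ := by
    rw [← LinearMap.range_eq_top, Fintype.range_linearCombination]
    convert hS
    exact Subtype.range_coe
  have hopen := (IsModuleTopology.isOpenQuotientMap_of_surjective (R := ℝ) hφ).isOpenMap
  let B : Set (S → ℝ) := {c | ∑ i, |c i| * N i < 1}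
  have hB : IsOpen B := isOpen_lt (by fun_prop) continuous_const
  rw [mem_interior]
  refine ⟨(fun z => clR k X A hA + z) '' (φ '' B), ?_, (Homeomorph.addLeft (clR k X A hA)).isOpenMap _ (hopen B hB),
    φ 0, ⟨0, by simp [B], rfl⟩, by simp⟩
  rintro _ ⟨_, ⟨c, hc, rfl⟩, rfl⟩
  have hterm : ∀ i : S, (|c i| * N i) • clR k X A hA + c i • i.1 = 0 ∨
      (|c i| * N i) • clR k X A hA + c i • i.1 ∈ C := fun i => by
    rcases lt_trichotomy (c i) 0 with h | h | h
    · refine Or.inr ?_
      have h' := ConvexCone.smul_mem _ (neg_pos.2 h) (hm i)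
      rw [smul_sub, smul_smul, neg_smul (c i) (i.1), sub_neg_eq_add] at h'
      rwa [abs_of_neg h]
    · exact Or.inl (by simp [h])
    · refine Or.inr ?_
      have h' := ConvexCone.smul_mem _ h (hp i)
      rw [smul_add, smul_smul] at h'
      rwa [abs_of_pos h]
  have hsum : ∀ T : Finset S, (1 - ∑ i, |c i| * N i) • clR k X A hA +
      ∑ i ∈ T, ((|c i| * N i) • clR k X A hA + c i • i.1) ∈ C := by
    intro T
    induction T using Finset.induction_on with
    | empty =>
      rw [Finset.sum_empty, add_zero]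
      exact ConvexCone.smul_mem _ (sub_pos.2 hc) (mem_coneOf k hA hAa)
    | insert i T hi ih =>
      rw [Finset.sum_insert hi, add_left_comm]
      rcases hterm i with h | h
      · rw [h, zero_add]; exact ih
      · exact ConvexCone.add_mem _ h ih
  have h := hsum Finset.univ
  rw [Finset.sum_add_distrib, ← Finset.sum_smul, ← add_assoc, ← add_smul, sub_add_cancel, one_smul] at h
  exact h

theorem isOpen_bigCone {H : X.Modules} (hH : CohB1.IsAmple H) :
    IsOpen (coneOf k X IsBig : Set (NumR.N1R k X)) := by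
  have h : (coneOf k X IsBig : Set (NumR.N1R k X)) =
      ⋃ e ∈ (effCone k X : Set (NumR.N1R k X)), (fun a => a + e) '' (ampleCone k X : Set _) := by
    ext x
    simp only [Set.mem_iUnion, Set.mem_image, SetLike.mem_coe]
    refine ⟨fun hx => ?_, fun ⟨e, he, a, ha, hx⟩ => hx ▸ add_mem_bigCone k ha he⟩
    obtain ⟨a, ha, he⟩ := (mem_bigCone_iff k hH x).1 hx
    exact ⟨x - a, he, a, ha, add_sub_cancel a x⟩
  rw [h]
  exact isOpen_biUnion fun e _ => (Homeomorph.addRight e).isOpenMap _ (isOpen_ampleCone k)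

theorem bigCone_eq_interior {H : X.Modules} (hH : CohB1.IsAmple H) :
    (coneOf k X IsBig : Set (NumR.N1R k X)) = interior (psefCone k X) ∧
      psefCone k X = closure (coneOf k X IsBig : Set (NumR.N1R k X)) := by
  have hsub : (coneOf k X IsBig : Set (NumR.N1R k X)) ⊆ (effCone k X : Set (NumR.N1R k X)) := fun x hx => by
    obtain ⟨a, ha, he⟩ := (mem_bigCone_iff k hH x).1 hx
    simpa using ConvexCone.add_mem _ (ampleCone_le_effCone k ha) he
  have hh : clR k X H hH.1 ∈ ampleCone k X := mem_coneOf k _ hH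
  refine ⟨Set.Subset.antisymm ((isOpen_bigCone k hH).subset_interior_iff.2 (hsub.trans subset_closure)) ?_,
    Set.Subset.antisymm (closure_minimal ?_ isClosed_closure) (closure_mono hsub)⟩
  · intro x hx
    have ht : Filter.Tendsto (fun n : ℕ => x - (1 / ((n : ℝ) + 1)) • clR k X H hH.1) Filter.atTop (nhds x) := by
      simpa using (tendsto_const_nhds (x := x)).sub
        ((tendsto_one_div_add_atTop_nhds_zero_nat (𝕜 := ℝ)).smul_const (clR k X H hH.1))
    obtain ⟨n, hn⟩ := (ht.eventually (isOpen_interior.mem_nhds hx)).exists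
    let ε : ℝ := 1 / ((n : ℝ) + 1)
    have hε : ε • clR k X H hH.1 ∈ ampleCone k X := ConvexCone.smul_mem _ (by positivity) hh
    have hU : IsOpen ((fun a => x - a) '' (ampleCone k X : Set (NumR.N1R k X))) :=
      (Homeomorph.subLeft x).isOpenMap _ (isOpen_ampleCone k)
    obtain ⟨_, ⟨a, ha, rfl⟩, he⟩ := mem_closure_iff.1 (interior_subset hn) _ hU ⟨_, hε, rfl⟩
    exact (mem_bigCone_iff k hH x).2 ⟨a, ha, he⟩
  · intro e he
    have ht : Filter.Tendsto (fun n : ℕ => (1 / ((n : ℝ) + 1)) • clR k X H hH.1 + e) Filter.atTop (nhds e) := by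
      simpa using ((tendsto_one_div_add_atTop_nhds_zero_nat (𝕜 := ℝ)).smul_const (clR k X H hH.1)).add
        (tendsto_const_nhds (x := e))
    exact mem_closure_of_tendsto ht (Filter.Eventually.of_forall fun n =>
      add_mem_bigCone k (ConvexCone.smul_mem _ (by positivity) hh) he)

end Topology

end Groth.L18.PosCones
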